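/-
Case III: the basic lemmas (structure of `F`, Φ₀, Θ, W-lemma, Lemma P, fI, planes); they are
proved in `G3A`, `G3B` and `G3M`.
-/
import Cfsg.Agent.TECH.S2L.G3M
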