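import Mathlib
import Cfsg.Agent.TECH.S2L.TitsDefs
import Cfsg.Agent.FGS.MinTriple
import Cfsg.Agent.SOLV.MinNormal
import Cfsg.Agent.FUS.GL2InSL3
import Cfsg.Agent.CLAS.UniTwo
import Cfsg.Agent.CLAS.PGL2Solv
import Cfsg.Agent.CLAS.PGL2Subfield
import Cfsg.Agent.PERM.U33
import Cfsg.Agent.KSG.MathieuMdl
import Cfsg.Agent.CHEV.SzSub
import Cfsg.Agent.CHEV.SzConcrete

/-!
# Simple groups with a proper nonsolvable subgroup
-/

set_option maxRecDepth 100000
set_option exponentiation.threshold 3000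

open Cfsg Subgroup

namespace CL.S2L

variable {G : Type*} [Group G]

/-- `G` has a proper nonsolvable subgroup. -/
def NMS (G : Type*) [Group G] : Prop := ∃ H : Subgroup G, H ≠ ⊤ ∧ ¬ Group.IsSolvable H

theorem NMS.of_equiv {X : Type*} [Group X] (h : NMS X) (e : G ≃* X) : NMS G := by
  obtain ⟨H, h1, h2⟩ := h
  refine ⟨H.comap (e : G →* X), fun k => h1 ?_, fun k => h2 ?_⟩
  · rw [← map_comap_eq_self_of_surjective (f := (e : G →* X)) e.surjective H, k,
      map_top_of_surjective _ e.surjective]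
  · rw [← map_comap_eq_self_of_surjective (f := (e : G →* X)) e.surjective H]
    exact CL.isSolvable_map _ _

theorem nms_of_triple {H : Subgroup G} (hH : H ≠ ⊤) {a b : G} (ha : a ∈ H) (hb : b ∈ H) (h1 : a ≠ 1)
    (h2 : a ^ 2 = 1) (h3 : b ^ 3 = 1) {n : ℕ} (hn : Nat.Coprime 6 n) (h : (a * b) ^ n = 1) : NMS G := by
  have d2 := orderOf_dvd_of_pow_eq_one h2
  have d3 := orderOf_dvd_of_pow_eq_one h3
  have dn := orderOf_dvd_of_pow_eq_one h
  exact ⟨H, hH, fun k => CL.MinTr.not_solvable h1 (Nat.Coprime.of_dvd d2 d3 (by decide))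
    (Nat.Coprime.of_dvd (d2.trans (by decide)) dn hn) (Nat.Coprime.of_dvd (d3.trans (by decide)) dn hn)
    (CL.isSolvable_of_le ((closure_le H).2 (by rintro _ (rfl | rfl); exacts [ha, hb])) k)⟩

theorem nms_alt7 : NMS (alternatingGroup (Fin 7)) := by
  refine nms_of_triple (H := MulAction.stabilizer _ (6 : Fin 7)) (fun h => ?_)
    (a := ⟨Equiv.swap 0 1 * Equiv.swap 2 3, Equiv.Perm.mem_alternatingGroup.2 (by decide)⟩)
    (b := ⟨Equiv.swap 0 2 * Equiv.swap 2 4, Equiv.Perm.mem_alternatingGroup.2 (by decide)⟩)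
    (MulAction.mem_stabilizer_iff.2 (by decide)) (MulAction.mem_stabilizer_iff.2 (by decide))
    (by decide) (by decide) (by decide) (n := 5) (by decide) (by decide)
  exact absurd (MulAction.mem_stabilizer_iff.1 (h.ge (mem_top (⟨Equiv.swap 0 1 * Equiv.swap 5 6,
    Equiv.Perm.mem_alternatingGroup.2 (by decide)⟩ : alternatingGroup (Fin 7))))) (by decide)

open CL.Golay CL.MathMdl in
theorem nms_M11 : NMS Spor.M11 := by
  obtain ⟨a, ha, ra⟩ := in11 (P := 970499966350631336865513127433832480) (by decide +kernel)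
  obtain ⟨b, hb, rb⟩ := in11 (P := 321216926161451348542932178049583136) (by decide +kernel)
  obtain ⟨c, hc, rc⟩ := in11 (P := 809132725584452131806830626181881952) (by decide +kernel)
  have rab := R.mul ra rb
  have r2 := R.mul rab rab
  refine nms_of_triple (H := MulAction.stabilizer _ (E.dec 1)) (fun h => ?_) (a := ⟨a, ha⟩) (b := ⟨b, hb⟩)
    ((ra.apply_dec (by norm_num)).trans (by decide +kernel))
    ((rb.apply_dec (by norm_num)).trans (by decide +kernel)) (fun e => ?_) (Subtype.ext ?_)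
    (Subtype.ext ?_) (n := 5) (by decide) (Subtype.ext ?_)
  · exact absurd ((rc.apply_dec (i := 1) (by norm_num)).symm.trans (h.ge (mem_top (⟨c, hc⟩ : Spor.M11))))
      (by decide +kernel)
  · exact absurd ((R.comp24_eq_one_iff ra R.one).2 (by simpa using e)) (by decide +kernel)
  · exact (pow_two a).trans ((R.comp24_eq_one_iff ra ra).1 (by decide +kernel))
  · exact (pow_three' b).trans ((R.comp24_eq_one_iff (R.mul rb rb) rb).1 (by decide +kernel))
  · refine Eq.trans ?_ ((R.comp24_eq_one_iff (R.mul r2 r2) rab).1 (by decide +kernel))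
    simp [pow_succ, mul_assoc]

namespace U33L

open CL.K CL.PM CL.CG CL.U33

def c3 : ℕ := 0x8040402000040202010040201008040402000080202010040402000080002000000402010080000

def lA : ℕ → ℕ := fld 1 1 0x71ead16d16ed5daa5d2fb4ed0bcbb4e973a6765ac

def lP : ℕ → ℕ := fld 8 255 0xa29b9593928e8d8a89878685828180807e7e7d7d7c7b7b7a7a797775747372727170706f6f6e6c6a69686665646362626160605f5f5d5c5b5a5959585757565655555453514f4e4d4c4b4b4a49474544434241403f3f3e3d3d3c3c3b3938373736353534343331302f2e2d2c2b2a2a292827262524242322222121201f1e1d1d1c1c1b1a191817161615141312121111100f0e0e0d0c0b0a0a090808070605040303020201000000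

def lJ (s i : ℕ) : ℕ := fld 8 255 0x9ea4819da7839f738da3a68b8fa56a7f6875667c9464986382a2a19685a05d71885b9c5a8e9b9a999197959392904f61784d8c4c8a8987868445586d4380427e417d407b7a79777674397238706f6e6c6b6967652f3e522d622c605f5e5c283648265925575655545351504e1f1e4b4a494746441a2332183f173d3c3b3a14371335343331302e0f2b2a29270c240b222120091d1c1b19061615041211100e0d010a000807050302a29b959392a79a908987868ca6a18a80847ea57da4a37ba07a79779c74999f729e9d70976f6e6c9869969465918f8e628d67608b5f885c85838259815e577f5676557c5351784e75736b4b7149476d446a68664a643f63463d613c3b5d545b375a50355834333130522e4f4d4c2b2a294827454342244140223e21203a39381d361c1b32192f2d2c1615282625122311101f1e0e0d1a18170a141308070f050c0b03090206040001 (Nat.add (Nat.mul 168 s) i)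

theorem chk7 : force (mkTree 324 MM (lmul mul [ct, c3]) lA lP 168 one) (fun u =>
    Nat.beq (fld 324 MM u 0) one && closedB mul [ct, c3] (fld 324 MM u) lJ 168) = true := by
  decide +kernel

theorem chkW : (wordsB mul one L [(ct, [0]), (c3, [1, 0, 1, 0, 1, 0, 1, 1])] &&
    Nat.beq (ord mul one 12 ct) 2 && Nat.beq (ord mul one 12 c3) 3 &&
    Nat.beq (ord mul one 12 (mul ct c3)) 7) = true := by decide +kernel

attribute [local irreducible] MM fld U33.mul mkTree

theorem nms [Finite G] {φ : G → ℕ} (M : Model φ) : NMS G := by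
  have h := chk7
  have k := chkW
  simp only [force_eq, Bool.and_eq_true] at h k
  obtain ⟨⟨⟨k1, k2⟩, k3⟩, k4⟩ := k
  have m := M.C.mem_of_wordsB M.mem_L k1
  have m1 := m ct (by simp)
  have m2 := m c3 (by simp)
  have o2 := M.C.orderOf_elt m1 (by norm_num) k2
  have hc := M.C.card_le (M.C.complete_of_closed (by norm_num) (eq_of_beq h.1) h.2)
  refine nms_of_triple (H := gen φ [ct, c3]) (fun e => ?_) (M.C.elt_mem (m1.gen (by simp)))
    (M.C.elt_mem (m2.gen (by simp))) (fun e => by simp [e] at o2) (o2 ▸ pow_orderOf_eq_one _)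
    (M.C.orderOf_elt m2 (by norm_num) k3 ▸ pow_orderOf_eq_one _) (n := 7) (by decide) ?_
  · have := le_card M.C M.mem_L
    rw [M.gen_L, ← e] at this
    omega
  · rw [← M.C.elt_mul m1 m2, ← M.C.orderOf_elt (M.C.mem_mul m1 m2) (by norm_num) k4, pow_orderOf_eq_one]

end U33L

theorem nms_U33 {F : Type*} [Field F] [Fintype F] (hF : Fintype.card F = 9) : NMS (PSU 3 F 3) := by
  obtain ⟨φ, M, -⟩ := CL.U33.exists_model_SU (F := F) hF
  obtain ⟨e⟩ := CL.U33.nonempty_equiv (F := F) hF
  exact (U33L.nms M).of_equiv e.symm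

theorem TitsLike.nms [Finite G] (h : TitsLike G) : NMS G := by
  obtain ⟨φ, hφ⟩ := h.sym
  refine ⟨φ.range, fun e => ?_, fun k => Equiv.Perm.not_isSolvable (Fin 6) (by norm_num)
    (CL.isSolvable_of_mulEquiv (MonoidHom.ofInjective hφ).symm)⟩
  have := Nat.card_congr (MonoidHom.ofInjective hφ).toEquiv
  rw [e, card_top, h.card, Nat.card_eq_fintype_card, Fintype.card_perm] at this
  exact absurd this (by decide)

theorem nms_Sz {F : Type*} [Field F] [Fintype F] {m : ℕ} (hm : 1 ≤ m)
    (hF : Fintype.card F = 2 ^ (2 * m + 1)) (h : ¬ (2 * m + 1).Prime) : NMS (Lie.Sz F (2 ^ (m + 1))) := by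
  have := CL.Sz.charP_two hF
  obtain ⟨d, d1, d2, d3⟩ := Nat.exists_dvd_of_not_prime2 (by omega) h
  obtain ⟨c, hc⟩ := d1
  obtain ⟨S, hS⟩ := CL.Dk.exists_subfield_card (F := F) 2 (a := d) (m := c) (by omega)
    (by rw [← pow_mul, ← hc, CL.Sz.natCard_eq hF])
  have h4 : 2 ^ 2 ≤ Nat.card S := hS ▸ Nat.pow_le_pow_right (by norm_num) d2
  have ht : ∃ t ∈ S, t ≠ 0 ∧ t ≠ 1 := by
    by_contra! hc
    have : Nat.card S ≤ ({0, 1} : Set F).ncard := Set.ncard_le_ncard (s := (S : Set F))
      fun t ht => by by_cases e : t = 0; exacts [.inl e, .inr (hc t ht e)]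
    have := Set.ncard_pair (zero_ne_one (α := F))
    omega
  set M := CL.Sz.lieModel hF
  have := M.isSimpleGroup_sub hF ht
  have hlt : Nat.card S < Nat.card F := by
    rw [hS, CL.Sz.natCard_eq hF]; exact Nat.pow_lt_pow_right (by norm_num) d3
  refine ⟨M.sub S, fun e => ?_, CL.Dk.not_isSolvable_of_simple ?_⟩
  · have h1 := M.card_sub hF S
    rw [e, card_top, M.card_G] at h1
    refine absurd h1.symm (ne_of_lt ?_)
    exact Nat.mul_lt_mul'' (Nat.mul_lt_mul'' (by gcongr) (by gcongr)) (by omega)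
  · rw [M.card_sub hF S, mul_assoc]
    exact Nat.not_prime_mul (by nlinarith) (fun e => by
      have := Nat.eq_one_of_mul_eq_one_right e
      nlinarith)

/-- a nontrivial element of `PSU₃(q)`, `q > 3`, with nonsolvable centralizer. -/
theorem exists_cent_psu3 {F : Type*} [Field F] [Fintype F] {q : ℕ} (hF : Fintype.card F = q ^ 2)
    (hq : 4 ≤ q) : ∃ x : PSU 3 F q, x ≠ 1 ∧ ¬ Group.IsSolvable (centralizer ({x} : Set (PSU 3 F q))) := by
  let ψ : GU 2 F q →* PSU 3 F q := (QuotientGroup.mk' _).comp (CL.Fus.gu2ToSU3 hF)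
  have inj := CL.Fus.gu2ToSU3_injective hF
  have hk : ψ.ker = (center _).comap (CL.Fus.gu2ToSU3 hF) := by
    rw [← MonoidHom.comap_ker, QuotientGroup.ker_mk']
  have h3 : Nat.card ψ.ker ≤ 3 := by
    rw [hk]
    exact Nat.le_of_dvd (by norm_num) ((card_comap_dvd_of_injective _ _ inj).trans
      (CL.Uni.card_center_SU hF (n := 3) (by norm_num) ▸ Nat.gcd_dvd_left _ _))
  obtain ⟨c, hc, hc'⟩ : ∃ c ∈ center (GU 2 F q), c ∉ ψ.ker := by
    by_contra! h
    have := card_le_of_le (show center (GU 2 F q) ≤ ψ.ker from h)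
    rw [CL.Uni.card_center_GU hF le_rfl] at this
    omega
  refine ⟨ψ c, hc', fun h => ?_⟩
  have h1 : Group.IsSolvable ((centralizer ({ψ c} : Set _)).comap ψ) := CL.isSolvable_comap ψ _ h (by
    rw [hk]
    exact CL.isSolvable_comap _ _ (Group.isSolvable_of_comm mul_comm') (by rw [(MonoidHom.ker_eq_bot_iff _).2 inj]; infer_instance))
  obtain ⟨e⟩ := CL.Uni.nonempty_SU_two_equiv hF (CL.SqField.card_fixedSubfield hF)
  let ι : SU 2 F q →* GU 2 F q :=
    (Matrix.SpecialLinearGroup.toGL.comp (SU 2 F q).subtype).codRestrict _ fun g => g.2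
  have h2 : Group.IsSolvable (SU 2 F q) := Group.isSolvable_of_isSolvable_injective
    (f := ι.codRestrict ((centralizer ({ψ c} : Set _)).comap ψ) fun g =>
      mem_centralizer_singleton_iff.2 (by rw [← map_mul, ← map_mul, mem_center_iff.1 hc]))
    fun a b k => Subtype.ext (Matrix.SpecialLinearGroup.toGL_injective
      (congrArg (fun x => x.1.1) k))
  have h3 := CL.isSolvable_of_mulEquiv e
  exact CL.Dk.not_isSolvable_psl (F := CL.SqField.fixedSubfield hF)
    (by rwa [CL.SqField.card_fixedSubfield hF]) inferInstance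

theorem not_isNGroup_of_cent [Finite G] {x : G} (h1 : x ≠ 1)
    (h : ¬ Group.IsSolvable (centralizer ({x} : Set G))) : ¬ IsNGroup G := fun hN => by
  obtain ⟨p, hp, k, hk⟩ := Nat.exists_prime_and_dvd (n := orderOf x) (by simpa using h1)
  have : Fact p.Prime := ⟨hp⟩
  have ho : orderOf (x ^ k) = p := by
    have hk0 : k ≠ 0 := by rintro rfl; exact (orderOf_pos x).ne' hk
    rw [orderOf_pow' _ hk0, hk, Nat.gcd_mul_left_left, Nat.mul_div_cancel _ (Nat.pos_of_ne_zero hk0)]
  refine h (CL.isSolvable_of_le ?_ (hN _ ⟨p, zpowers (x ^ k), hp,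
    IsPGroup.of_card (n := 1) (by rw [Nat.card_zpowers, ho, pow_one]),
    fun e => hp.one_lt.ne' (by rw [← ho, zpowers_eq_bot.1 e, orderOf_one]), rfl⟩))
  refine le_trans (fun g hg => ?_) (centralizer_le_normalizer _)
  rintro _ ⟨n, rfl⟩
  exact (((show Commute g x from mem_centralizer_singleton_iff.1 hg).pow_right k).zpow_right n).symm

theorem not_isNGroup_psu3 {F : Type*} [Field F] [Fintype F] {q : ℕ} (hF : Fintype.card F = q ^ 2)
    (hq : 4 ≤ q) (e : G ≃* PSU 3 F q) : ¬ IsNGroup G := by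
  have : Finite G := Finite.of_equiv _ e.symm.toEquiv
  obtain ⟨x, h1, h2⟩ := exists_cent_psu3 hF hq
  refine not_isNGroup_of_cent (x := e.symm x) (by simpa using h1) fun k => h2 ?_
  refine CL.isSolvable_of_le (fun g hg => ?_) (CL.isSolvable_map (centralizer {e.symm x}) (e : G →* _))
  refine ⟨e.symm g, mem_centralizer_singleton_iff.2 ?_, by simp⟩
  rw [← map_mul, ← map_mul, mem_centralizer_singleton_iff.1 hg]

theorem isNGroup_of_isMinimalSimple [Finite G] (h : IsMinimalSimple G) : IsNGroup G := by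
  rintro _ ⟨p, T, hp, hT, h0, rfl⟩
  have := h.1
  have : Fact p.Prime := ⟨hp⟩
  refine h.2.2 _ fun e => ?_
  obtain rfl := (normalizer_eq_top_iff.1 e).eq_bot_or_eq_top.resolve_left h0
  have := (hT.of_equiv topEquiv).isNilpotent
  exact h.2.1 ⟨⟨IsSimpleGroup.comm_iff_isSolvable.2 inferInstance⟩⟩

end CL.S2L
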