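import Mathlib
import Cfsg.Agent.TECH.S2L.Simple
import Cfsg.Agent.TECH.S2L.MinExc
import Cfsg.Agent.S0810

/-!
# Minimal simple groups (explicit list)
-/

open Cfsg

namespace CL.S2L

/-- Thompson's list of the minimal simple groups, every member given up to isomorphism. -/
def MinList (G : Type*) [Group G] : Prop :=
  (∃ (F : Type) (_ : Field F) (_ : Fintype F),
      ((∃ r : ℕ, r.Prime ∧ Fintype.card F = 2 ^ r) ∨ (∃ r : ℕ, r.Prime ∧ r ≠ 2 ∧ Fintype.card F = 3 ^ r) ∨
        ((Fintype.card F).Prime ∧ 5 < Fintype.card F ∧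
          (Fintype.card F % 5 = 2 ∨ Fintype.card F % 5 = 3)) ∨ Fintype.card F = 5) ∧
      Nonempty (G ≃* Matrix.ProjectiveSpecialLinearGroup (Fin 2) F)) ∨
    (∃ (F : Type) (_ : Field F) (_ : Fintype F), Fintype.card F = 3 ∧
      Nonempty (G ≃* Matrix.ProjectiveSpecialLinearGroup (Fin 3) F)) ∨
    (∃ (F : Type) (_ : Field F) (_ : Fintype F) (m : ℕ), 1 ≤ m ∧ (2 * m + 1).Prime ∧
      Fintype.card F = 2 ^ (2 * m + 1) ∧ Nonempty (G ≃* Lie.Sz F (2 ^ (m + 1))))

/-- **Thompson's classification of the minimal simple groups.** -/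
theorem minimal {G : Type*} [Group G] [Finite G] (hG : IsMinimalSimple G) : MinList G := by
  have := hG.1
  have hN := isNGroup_of_isMinimalSimple hG
  have no : ¬ NMS G := fun ⟨H, h1, h2⟩ => h2 (hG.2.2 H h1)
  rcases simple hG.2.1 fun N ⟨T, h⟩ => hN N ⟨2, T, Nat.prime_two, h⟩ with ⟨F, _, _, -, ⟨e⟩⟩ |
    ⟨F, _, _, m, hm, hF, ⟨e⟩⟩ | ⟨F, _, _, n, hn, hF, ⟨e⟩⟩ | h | ⟨F, _, _, hF, ⟨e⟩⟩ | ⟨⟨e⟩⟩ | ⟨⟨e⟩⟩ | h
  · refine .inl ⟨F, _, _, (Cfsg.Agent.S0810.result rfl).1 ⟨e.symm.isSimpleGroup, fun h => hG.2.1 ?_,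
      fun H hH => by_contra fun h => no (NMS.of_equiv ⟨H, hH, h⟩ e)⟩, ⟨e⟩⟩
    exact ⟨⟨fun a b => e.injective (by rw [map_mul, map_mul, h.1.1])⟩⟩
  · exact .inr (.inr ⟨F, _, _, m, hm, by_contra fun h => no ((nms_Sz hm hF h).of_equiv e), hF, ⟨e⟩⟩)
  · exact absurd hN (not_isNGroup_psu3 hF (Nat.pow_le_pow_right (n := 2) (by norm_num) hn) e)
  · exact .inr (.inl h)
  · exact absurd ((nms_U33 hF).of_equiv e) no
  · exact absurd (nms_alt7.of_equiv e) no
  · exact absurd (nms_M11.of_equiv e) no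
  · exact absurd h.2.nms no

/-- a nonsolvable group all of whose proper subgroups are solvable is minimal simple modulo its
Frattini subgroup. -/
theorem isMinimalSimple_quotient_frattini {G : Type*} [Group G] [Finite G]
    (hG : ¬ Group.IsSolvable G) (h : ∀ H : Subgroup G, H ≠ ⊤ → Group.IsSolvable H) :
    IsMinimalSimple (G ⧸ frattini G) := by
  have hs := QuotientGroup.mk'_surjective (frattini G)
  have h1 : ¬ Group.IsSolvable (G ⧸ frattini G) := fun _ => hG <| by
    have : Group.IsNilpotent (frattini G) := frattini_nilpotent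
    exact Group.isSolvable_of_ker_le_range (frattini G).subtype (QuotientGroup.mk' (frattini G))
      (by simp)
  have h2 : ∀ H : Subgroup (G ⧸ frattini G), H ≠ ⊤ → H.comap (QuotientGroup.mk' _) ≠ ⊤ :=
    fun H hH e => hH (by rw [← Subgroup.map_comap_eq_self_of_surjective hs H, e,
      Subgroup.map_top_of_surjective _ hs])
  have : Nontrivial (G ⧸ frattini G) := not_subsingleton_iff_nontrivial.1 fun _ => h1 inferInstance
  refine ⟨⟨fun N _ => or_iff_not_imp_right.2 fun hN => ?_⟩,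
    fun k => h1 (Group.isSolvable_of_comm k.1.1), fun H hH => ?_⟩
  · rw [← Subgroup.map_comap_eq_self_of_surjective hs N, Subgroup.map_eq_bot_iff,
      QuotientGroup.ker_mk']
    refine le_iInf₂ fun K hK => by_contra fun hle => hG ?_
    have := CL.isSolvable_sup_of_normal (h K hK.1) (h _ (h2 N hN))
    rw [hK.2 _ (left_lt_sup.2 hle)] at this
    exact CL.isSolvable_of_mulEquiv Subgroup.topEquiv
  · rw [← Subgroup.map_comap_eq_self_of_surjective hs H]
    have := h _ (h2 H hH)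
    exact CL.isSolvable_map _ _

/-- a nonsolvable group has a nonsolvable subgroup all of whose proper subgroups are solvable. -/
theorem exists_minimal_nonsolvable {G : Type*} [Group G] [Finite G] (hG : ¬ Group.IsSolvable G) :
    ∃ H : Subgroup G, ¬ Group.IsSolvable H ∧ ∀ K : Subgroup H, K ≠ ⊤ → Group.IsSolvable K := by
  obtain ⟨H, -, h⟩ := exists_minimal_le_of_wellFoundedLT
    (fun H : Subgroup G => ¬ Group.IsSolvable H) ⊤
    fun _ => hG (CL.isSolvable_of_mulEquiv Subgroup.topEquiv)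
  refine ⟨H, h.1, fun K hK => CL.isSolvable_map_subtype_iff.1 (by_contra fun k => hK ?_)⟩
  exact Subgroup.map_subtype_inj.1 (((Subgroup.map_subtype_le K).antisymm (h.2 k (Subgroup.map_subtype_le K))).trans
    (by rw [← MonoidHom.range_eq_map, Subgroup.range_subtype]))

/-- a nonsolvable group has a minimal simple section `H/Φ(H)` on the list. -/
theorem exists_section {G : Type*} [Group G] [Finite G] (hG : ¬ Group.IsSolvable G) :
    ∃ H : Subgroup G, (∀ K : Subgroup H, K ≠ ⊤ → Group.IsSolvable K) ∧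
      IsMinimalSimple (H ⧸ frattini H) ∧ MinList (H ⧸ frattini H) := by
  obtain ⟨H, h1, h2⟩ := exists_minimal_nonsolvable hG
  exact ⟨H, h2, isMinimalSimple_quotient_frattini h1 h2,
    minimal (isMinimalSimple_quotient_frattini h1 h2)⟩

end CL.S2L
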