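import Mathlib
import Cfsg.Prelude.Def_KGroupFacts
import Cfsg.Prelude.Def_CaseTheorems
import Cfsg.Agent.FGS.SolvRad
import Cfsg.Agent.SIG.PElt
import Cfsg.Agent.BLK.CoverQuot
import Cfsg.Agent.S0205

/-!
# Nonsolvable groups with solvable `2`-local subgroups are almost simple modulo the core
-/

open Cfsg Subgroup
open scoped commutatorElement

namespace CL.S2L

variable {G : Type*} [Group G] [Finite G]

/-- every `2`-local subgroup is solvable. -/
def L2S (G : Type*) [Group G] : Prop := ∀ N : Subgroup G, IsTwoLocal N → Group.IsSolvable N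

omit [Finite G] in
theorem L2S.cent (h : L2S G) {t : G} (ht : orderOf t = 2) :
    Group.IsSolvable (centralizer ({t} : Set G)) := by
  refine CL.isSolvable_of_le ?_ (h _ ⟨zpowers t, IsPGroup.of_card (n := 1)
    (by rw [Nat.card_zpowers, ht, pow_one]), fun e => by simp [zpowers_eq_bot.1 e] at ht, rfl⟩)
  refine le_trans (fun g hg => ?_) (centralizer_le_normalizer _)
  rintro _ ⟨n, rfl⟩
  exact ((show Commute g t from mem_centralizer_singleton_iff.1 hg).zpow_right n).symm

theorem exists_inv_of_even {X : Subgroup G} (h : ¬ (Nat.card X).Coprime 2) : ∃ t ∈ X, orderOf t = 2 := by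
  rw [Nat.coprime_comm, Nat.prime_two.coprime_iff_not_dvd, not_not] at h
  obtain ⟨t, ht⟩ := exists_prime_orderOf_dvd_card' 2 h
  exact ⟨t, t.2, (orderOf_coe t).trans ht⟩

theorem isSolvable_of_coprime_two {X : Type*} [Group X] [Finite X] (h : (Nat.card X).Coprime 2) :
    Group.IsSolvable X :=
  Cfsg.Agent.S0205.result (Nat.coprime_two_right.1 h)

theorem L2S.not_le_cent (h : L2S G) {X Y : Subgroup G} (hX : ¬ (Nat.card X).Coprime 2)
    (hY : ¬ Group.IsSolvable Y) : ¬ X ≤ centralizer (Y : Set G) := fun k => by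
  obtain ⟨t, ht, h2⟩ := exists_inv_of_even hX
  exact hY (CL.isSolvable_of_le (fun y hy => mem_centralizer_singleton_iff.2 (k ht y hy)) (h.cent h2))

omit [Finite G] in
theorem L2S.sub (h : L2S G) (K : Subgroup G) : L2S K := by
  rintro _ ⟨T, h1, h2, rfl⟩
  exact CL.isSolvable_map_subtype_iff.1 (CL.isSolvable_of_le (le_normalizer_map K.subtype)
    (h _ ⟨T.map K.subtype, h1.map _, fun e => h2 ((map_eq_bot_iff_of_injective _
      K.subtype_injective).1 e), rfl⟩))

theorem L2S.quot (h : L2S G) : L2S (G ⧸ oddCore G) := by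
  rintro _ ⟨T, h1, h2, rfl⟩
  have hs := QuotientGroup.mk'_surjective (oddCore G)
  obtain ⟨D, d1, rfl⟩ := CL.Blk.exists_isPGroup_map_eq Nat.prime_two hs h1
  rw [CL.PComp.normalizer_map_of_coprime_ker hs (by
    rw [QuotientGroup.ker_mk']; exact CL.coprime_card_pPrimeCore 2 G) d1]
  have := h _ ⟨D, d1, by rintro rfl; exact h2 (map_bot _), rfl⟩
  exact CL.isSolvable_map _ _

theorem not_isSolvable_quot (hG : ¬ Group.IsSolvable G) : ¬ Group.IsSolvable (G ⧸ oddCore G) := fun _ => by
  have := isSolvable_of_coprime_two (CL.coprime_card_pPrimeCore 2 G)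
  exact hG (Group.isSolvable_of_ker_le_range (oddCore G).subtype (QuotientGroup.mk' (oddCore G)) (by simp))

theorem L2S.rad (h : L2S G) (hG : ¬ Group.IsSolvable G) (hO : oddCore G = ⊥) :
    solvableRadical G = ⊥ := by
  by_contra h0
  obtain ⟨M, hM, hle⟩ := CL.exists_isMinNormal_le _ h0
  have := hM.normal
  obtain ⟨p, hp, hpM⟩ := hM.exists_isPGroup_of_isSolvable (CL.SR.isSolvable_of_le_solvableRadical hle)
  by_cases h2 : p = 2
  · subst h2
    have := h _ ⟨M, hpM, hM.ne_bot, rfl⟩
    rw [normalizer_eq_top_iff.2 hM.normal] at this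
    exact hG (CL.isSolvable_of_mulEquiv topEquiv)
  · have := Fact.mk hp
    obtain ⟨n, hn⟩ := hpM.exists_card_eq
    exact hM.ne_bot (CL.pPrimeCore_eq_bot_iff.1 hO M hM.normal
      (hn ▸ ((Nat.coprime_primes hp Nat.prime_two).2 h2).pow_left n))

theorem L2S.exists_simple (h : L2S G) (hG : ¬ Group.IsSolvable G) (hO : oddCore G = ⊥) :
    ∃ K : Subgroup G, K.Normal ∧ IsSimpleGroup K ∧ ¬ Group.IsSolvable K ∧
      centralizer (K : Set G) = ⊥ := by
  have hR := h.rad hG hO
  have ns : ∀ X : Subgroup G, X.IsSubnormal → X ≠ ⊥ → ¬ Group.IsSolvable X := fun X h1 h2 h3 =>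
    h2 (eq_bot_iff.2 (hR ▸ CL.SR.le_solvableRadical_of_isSubnormal h1 h3))
  have : Nontrivial G := not_subsingleton_iff_nontrivial.1 fun _ => hG inferInstance
  obtain ⟨K, hK⟩ := CL.exists_isMinNormal G
  have := hK.normal
  have := hK.nontrivial
  have hs := ns K hK.normal.isSubnormal hK.ne_bot
  refine ⟨K, hK.normal, ⟨fun M _ => or_iff_not_imp_left.2 fun hM => ?_⟩, hs, by_contra fun h0 =>
    h.not_le_cent (fun k => ns _ (Normal.isSubnormal inferInstance) h0 (isSolvable_of_coprime_two k))
      hs le_rfl⟩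
  obtain ⟨N, hN, hle⟩ := CL.exists_isMinNormal_le M hM
  have nN : ∀ N : Subgroup K, CL.IsMinNormal N → ¬ Group.IsSolvable N := fun N hN k =>
    ns (N.map K.subtype) (hN.normal.isSubnormal.trans' hK.normal.isSubnormal)
      (fun e => hN.ne_bot ((map_eq_bot_iff_of_injective _ K.subtype_injective).1 e))
      (CL.isSolvable_map_subtype_iff.2 k)
  have hc : ∀ g : G, N.map ((MulAut.conjNormal g : K ≃* K) : K →* K) = N := fun g => by_contra fun e =>
    (h.sub K).not_le_cent (fun k => nN _ (hN.map_equiv _) (isSolvable_of_coprime_two k)) (nN N hN)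
      ((hN.map_equiv (MulAut.conjNormal g)).le_centralizer_of_ne hN e)
  have : (N.map K.subtype).Normal := ⟨by
    rintro _ ⟨n, hn, rfl⟩ g
    exact ⟨MulAut.conjNormal g n, (hc g).le ⟨n, hn, rfl⟩, rfl⟩⟩
  have e := hK.eq_of_le (map_subtype_le N)
    fun e => hN.ne_bot ((map_eq_bot_iff_of_injective _ K.subtype_injective).1 e)
  exact top_le_iff.1 fun x _ => hle (by simpa using (show x.1 ∈ N.map K.subtype from e.ge x.2))

omit [Finite G] in
theorem commutator_eq_of_out {K : Subgroup G} [K.Normal] [IsSimpleGroup K] (hs : ¬ Group.IsSolvable K)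
    (hC : centralizer (K : Set G) = ⊥) (h : IsMulCommutative (Out K)) : commutator G = K := by
  refine le_antisymm ((commutator_le.2 fun a _ b _ => ?_) : ⁅(⊤ : Subgroup G), ⊤⁆ ≤ K) ?_
  · have : MulAut.conjNormal (H := K) ⁅a, b⁆ ∈ Inn K := by
      rw [← QuotientGroup.eq_one_iff, map_commutatorElement, ← QuotientGroup.mk'_apply,
        map_commutatorElement, commutatorElement_eq_one_iff_mul_comm]
      exact h.1.1 _ _
    obtain ⟨k, hk⟩ := this
    have : (k : G)⁻¹ * ⁅a, b⁆ ∈ centralizer (K : Set G) := fun x hx => by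
      have := congrArg (fun φ : MulAut K => (φ ⟨x, hx⟩ : G)) hk
      simp only [MulAut.conj_apply, coe_mul, coe_inv, MulAut.conjNormal_apply] at this
      calc _ = (k : G)⁻¹ * (k * x * (k : G)⁻¹) * ⁅a, b⁆ := by group
        _ = _ := by rw [this]; group
    rw [hC, mem_bot, inv_mul_eq_one] at this
    exact this ▸ k.2
  · have h1 : commutator K = ⊤ := (Normal.eq_bot_or_eq_top inferInstance).resolve_left fun e =>
      hs (Group.isSolvable_of_comm ((commutator_eq_bot_iff_le_centralizer.1 e |> fun k a b =>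
        (k (mem_top b) a (mem_top a)))))
    calc K = (commutator K).map K.subtype := by rw [h1, ← MonoidHom.range_eq_map, range_subtype]
      _ ≤ commutator G := by rw [map_subtype_commutator]; exact commutator_mono le_top le_top

theorem nonempty_quot_equiv {K : Subgroup (G ⧸ oddCore G)} (h : commutator (G ⧸ oddCore G) = K) :
    Nonempty (↥(commutator G) ⧸ oddCore ↥(commutator G) ≃* K) := by
  let f := (QuotientGroup.mk' (oddCore G)).comp (commutator G).subtype
  have h1 : f.ker = oddCore ↥(commutator G) := by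
    rw [← MonoidHom.comap_ker, QuotientGroup.ker_mk', ← map_subtype_inj,
      CL.map_pPrimeCore_of_isSubnormal (Normal.isSubnormal inferInstance)]
    exact subgroupOf_map_subtype _ _
  have h2 : f.range = K := by
    rw [MonoidHom.range_comp, range_subtype, ← h, commutator_def, commutator_def, map_commutator,
      map_top_of_surjective _ (QuotientGroup.mk'_surjective _)]
  exact ⟨(QuotientGroup.quotientMulEquivOfEq h1.symm).trans
    ((QuotientGroup.quotientKerEquivRange f).trans (MulEquiv.subgroupCongr h2))⟩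

omit [Finite G] in
theorem out_comm_congr {X : Type*} [Group X] (e : G ≃* X) (h : IsMulCommutative (Out X)) :
    IsMulCommutative (Out G) := by
  have : (Inn G).map (MulAut.congr e : MulAut G →* MulAut X) = Inn X := by
    ext φ
    constructor
    · rintro ⟨_, ⟨g, rfl⟩, rfl⟩
      exact ⟨e g, by ext; simp⟩
    · rintro ⟨x, rfl⟩
      exact ⟨_, ⟨e.symm x, rfl⟩, by ext; simp⟩
  let j := QuotientGroup.congr _ _ (MulAut.congr e) this
  exact ⟨⟨fun a b => j.injective (by rw [map_mul, map_mul, h.1.1])⟩⟩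

omit [Finite G] in
theorem comm_of_ker {C : Type*} [Group C] [IsCyclic C] (φ : G →* C) (h : Nat.card φ.ker ∣ 2) :
    IsMulCommutative G := by
  refine φ.isMulCommutative_of_isCyclic_of_ker_le_center fun a ha => mem_center_iff.2 fun g => ?_
  by_cases h1 : a = 1
  · simp [h1]
  rcases (Nat.dvd_prime Nat.prime_two).1 h with h | h
  · exact absurd (mem_bot.1 ((card_eq_one.1 h).le ha)) h1
  obtain ⟨y, -, hy⟩ := (Nat.card_eq_two_iff' (1 : φ.ker)).1 h
  have e1 := hy ⟨a, ha⟩ fun e => h1 (congrArg Subtype.val e)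
  have e2 := hy ⟨g * a * g⁻¹, Normal.conj_mem inferInstance a ha g⟩
    fun e => h1 (conj_eq_one_iff.1 (congrArg Subtype.val e))
  exact mul_inv_eq_iff_eq_mul.1 (congrArg Subtype.val (e2.trans e1.symm))

end CL.S2L
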